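import Cfsg.Prelude.Def_SporCoxeter

/-! On-demand equation lemmas of the recursive / match-defined definitions of `Cfsg.Prelude.Def_SporCoxeter`, realised once.
Import this file before using `simp [f]`, `unfold f`, `rw [f]`, `f.eq_def` on them. -/

namespace Cfsg.Lib.Eqns

theorem Spor_coxLabel_eq_def : type_of% @Cfsg.Spor.coxLabel.eq_def := @Cfsg.Spor.coxLabel.eq_def
theorem Spor_coxLabel_eq_1 : type_of% @Cfsg.Spor.coxLabel.eq_1 := @Cfsg.Spor.coxLabel.eq_1
theorem Spor_coxLabel_fun_cases : type_of% @Cfsg.Spor.coxLabel.fun_cases := @Cfsg.Spor.coxLabel.fun_cases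
theorem Spor_coxLabel_fun_cases_unfolding : type_of% @Cfsg.Spor.coxLabel.fun_cases_unfolding := @Cfsg.Spor.coxLabel.fun_cases_unfolding

end Cfsg.Lib.Eqns
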