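import Cfsg.Prelude.Def_Spor_Ru

/-! On-demand equation lemmas of the recursive / match-defined definitions of `Cfsg.Prelude.Def_Spor_Ru`, realised once.
Import this file before using `simp [f]`, `unfold f`, `rw [f]`, `f.eq_def` on them. -/

namespace Cfsg.Lib.Eqns

theorem Spor_ruRk_eq_def : type_of% @Cfsg.Spor.ruRk.eq_def := @Cfsg.Spor.ruRk.eq_def
theorem Spor_ruRk_eq_1 : type_of% @Cfsg.Spor.ruRk.eq_1 := @Cfsg.Spor.ruRk.eq_1
theorem Spor_ruRk_fun_cases : type_of% @Cfsg.Spor.ruRk.fun_cases := @Cfsg.Spor.ruRk.fun_cases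
theorem Spor_ruRk_fun_cases_unfolding : type_of% @Cfsg.Spor.ruRk.fun_cases_unfolding := @Cfsg.Spor.ruRk.fun_cases_unfolding
theorem Spor_ruRj_eq_def : type_of% @Cfsg.Spor.ruRj.eq_def := @Cfsg.Spor.ruRj.eq_def
theorem Spor_ruRj_eq_1 : type_of% @Cfsg.Spor.ruRj.eq_1 := @Cfsg.Spor.ruRj.eq_1
theorem Spor_ruRj_fun_cases : type_of% @Cfsg.Spor.ruRj.fun_cases := @Cfsg.Spor.ruRj.fun_cases
theorem Spor_ruRj_fun_cases_unfolding : type_of% @Cfsg.Spor.ruRj.fun_cases_unfolding := @Cfsg.Spor.ruRj.fun_cases_unfolding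

end Cfsg.Lib.Eqns
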